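/-
A 2-group with an automorphism of order dividing five fixing only a central subgroup of order eight
and one of order dividing seven fixing nothing is special of order `2 ^ 15`.
-/
import Cfsg.Prelude.Def_Transfer
import Cfsg.Agent.PGroup.Frattini

set_option autoImplicit false

universe u

namespace CfsgLib.J4Pentad49

open Subgroup

variable {L : Type u} [Group L] [Finite L]

/-- If the fixed points of an automorphism `a` of prime order `q` (odd) lie in an invariant normal
subgroup `M` of a 2-group, the index of `M` is one modulo `q`. -/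
theorem index_modEq (hL : IsPGroup 2 L) (M : Subgroup L) [M.Normal] (a : MulAut L) {q : ℕ}
    (hq : q.Prime) (h2 : q ≠ 2) (ha : a ^ q = 1) (hM : ∀ x ∈ M, a x ∈ M)
    (hfix : ∀ x, a x = x → x ∈ M) : M.index % q = 1 := by
  classical
  haveI : Fact q.Prime := ⟨hq⟩
  have hit : ∀ (k : ℕ) (x : L), (fun y => a y)^[k] x = (a ^ k) x := by
    intro k x
    induction k with
    | zero => rfl
    | succ k ih => rw [Function.iterate_succ_apply', ih, pow_succ', MulAut.mul_apply]
  -- an invariant set of size prime to `q` contains a fixed point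
  have hpoint : ∀ {α : Type u} (s : Finite α) (f : α → α), f^[q] = id → ¬ q ∣ Nat.card α →
      ∃ x, f x = x := by
    intro α _ f hf hd
    haveI := Fintype.ofFinite α
    by_contra hne
    push Not at hne
    let e : Equiv.Perm α := ⟨f, f^[q - 1], fun x => by
      show f^[q - 1] (f x) = x
      rw [← Function.iterate_succ_apply, show (q - 1).succ = q by have := hq.two_le; omega, hf]
      rfl, fun x => by
      show f (f^[q - 1] x) = x
      rw [← Function.iterate_succ_apply' f (q - 1), show (q - 1).succ = q by have := hq.two_le; omega, hf]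
      rfl⟩
    have he : e ^ q ^ 1 = 1 := by
      rw [pow_one]
      ext x
      rw [Equiv.Perm.coe_pow]
      exact congrFun hf x
    have hdvd : ¬ q ∣ Fintype.card α := by rwa [← Nat.card_eq_fintype_card]
    obtain ⟨x, hx⟩ := Equiv.Perm.exists_fixed_point_of_prime (p := q) (n := 1) hdvd he
    exact hne x hx
  haveI := Fintype.ofFinite (L ⧸ M)
  let f : L ⧸ M → L ⧸ M := QuotientGroup.map M M (a : L →* L) (fun x hx => hM x hx)
  have hfit : ∀ (k : ℕ) (x : L), f^[k] (x : L ⧸ M) = (((a ^ k) x : L) : L ⧸ M) := by
    intro k x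
    induction k with
    | zero => rfl
    | succ k ih => rw [Function.iterate_succ_apply', ih, pow_succ', MulAut.mul_apply]; rfl
  -- only the trivial coset is fixed
  have hone : ∀ c : L ⧸ M, f c = c ↔ c = 1 := by
    intro c
    constructor
    · induction c using QuotientGroup.induction_on with
      | H x =>
        intro hc
        let S := {y : L // (y : L ⧸ M) = (x : L ⧸ M)}
        let g : S → S := fun y => ⟨a y.1, by
          show f ((y.1 : L ⧸ M)) = _
          rw [y.2, hc]⟩
        have hg : g^[q] = id := by
          funext y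
          apply Subtype.ext
          have : ∀ k, (g^[k] y).1 = (a ^ k) y.1 := by
            intro k
            induction k with
            | zero => rfl
            | succ k ih =>
              rw [Function.iterate_succ_apply', pow_succ', MulAut.mul_apply, ← ih]
          rw [this q, ha]
          rfl
        have hcard : Nat.card S = Nat.card M := Nat.card_congr
          { toFun := fun y => ⟨x⁻¹ * y.1, (QuotientGroup.eq).1 y.2.symm⟩
            invFun := fun m => ⟨x * m.1, (QuotientGroup.eq.2 (by simp [m.2])).symm⟩
            left_inv := fun y => Subtype.ext (by simp)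
            right_inv := fun m => Subtype.ext (by simp) }
        have hd : ¬ q ∣ Nat.card S := by
          rw [hcard]
          obtain ⟨n, hn⟩ := IsPGroup.iff_card.1 (hL.to_subgroup M)
          rw [hn]
          exact fun h => h2 ((Nat.prime_dvd_prime_iff_eq hq Nat.prime_two).1 (hq.dvd_of_dvd_pow h))
        obtain ⟨y, hy⟩ := hpoint inferInstance g hg hd
        rw [← y.2, QuotientGroup.eq_one_iff]
        exact hfix _ (congrArg Subtype.val hy)
    · rintro rfl
      exact map_one (QuotientGroup.map M M (a : L →* L) (fun x hx => hM x hx))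
  let e : Equiv.Perm (L ⧸ M) :=
    ⟨f, f^[q - 1], fun c => by
      induction c using QuotientGroup.induction_on with
      | H x =>
        rw [← Function.iterate_succ_apply, show (q - 1).succ = q by have := hq.two_le; omega, hfit,
          ha]
        rfl,
     fun c => by
      induction c using QuotientGroup.induction_on with
      | H x =>
        rw [← Function.iterate_succ_apply' f (q - 1), show (q - 1).succ = q by have := hq.two_le; omega,
          hfit, ha]
        rfl⟩
  have he : e ^ q ^ 1 = 1 := by
    rw [pow_one]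
    ext c
    rw [Equiv.Perm.coe_pow]
    induction c using QuotientGroup.induction_on with
    | H x =>
      show f^[q] (x : L ⧸ M) = _
      rw [hfit, ha]
      rfl
  have hmod := Equiv.Perm.card_compl_support_modEq he
  have hsupp : e.supportᶜ = {1} := by
    ext c
    rw [Finset.mem_compl, Equiv.Perm.mem_support, not_not, Finset.mem_singleton]
    exact hone c
  rw [hsupp, Finset.card_singleton, ← Nat.card_eq_fintype_card, ← index_eq_card] at hmod
  rw [← hmod, Nat.one_mod_eq_one.2 hq.one_lt.ne']

/-- The index of a subgroup invariant under both automorphisms is a power of `2 ^ 12`. -/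
theorem index_cases (hL : IsPGroup 2 L) (M : Subgroup L) [M.Normal] (a b : MulAut L)
    (ha : a ^ 5 = 1) (hb : b ^ 7 = 1) (hMa : ∀ x ∈ M, a x ∈ M) (hMb : ∀ x ∈ M, b x ∈ M)
    (hfa : ∀ x, a x = x → x ∈ M) (hfb : ∀ x, b x = x → x ∈ M) :
    M.index = 1 ∨ ∃ k, 1 ≤ k ∧ M.index = 2 ^ (12 * k) := by
  haveI : Fact (Nat.Prime 2) := ⟨Nat.prime_two⟩
  obtain ⟨n, hn⟩ := hL.index M
  have h5 := index_modEq hL M a (q := 5) (by norm_num) (by norm_num) ha hMa hfa
  have h7 := index_modEq hL M b (q := 7) (by norm_num) (by norm_num) hb hMb hfb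
  have hper : ∀ m : ℕ, 2 ^ m % 5 = 2 ^ (m % 12) % 5 ∧ 2 ^ m % 7 = 2 ^ (m % 12) % 7 := fun m => by
    have e : 2 ^ m = (2 ^ 12) ^ (m / 12) * 2 ^ (m % 12) := by
      rw [← pow_mul, ← pow_add, Nat.div_add_mod]
    constructor <;>
      · rw [e, Nat.mul_mod, Nat.pow_mod]
        norm_num
  rw [hn, (hper n).1] at h5
  rw [hn, (hper n).2] at h7
  have h12 : n % 12 = 0 := by
    have hlt : n % 12 < 12 := Nat.mod_lt _ (by norm_num)
    interval_cases h : n % 12 <;> simp_all
  rcases Nat.eq_zero_or_pos n with rfl | hpos
  · exact Or.inl (by rw [hn, pow_zero])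
  · refine Or.inr ⟨n / 12, by omega, ?_⟩
    rw [hn]
    congr 1
    omega

/-- The main lemma: `L` is special of order `2 ^ 15` with centre `E`. -/
theorem isSpecial_of_actions (hL : IsPGroup 2 L) (E : Subgroup L) (hE : E ≤ center L)
    (hE8 : Nat.card E = 8) (a b : MulAut L) (ha : a ^ 5 = 1) (hb : b ^ 7 = 1)
    (hEa : ∀ x ∈ E, a x ∈ E) (hEb : ∀ x ∈ E, b x ∈ E)
    (hfa : ∀ x, a x = x → x ∈ E) (hfb : ∀ x, b x = x → x = 1)
    (htrans : ∀ x ∈ E, x ≠ 1 → ∀ y ∈ E, y ≠ 1 → ∃ φ : MulAut L, φ x = y)
    (hna : ¬ ∀ x y : L, x * y = y * x) (hlo : 2 ^ 9 ≤ Nat.card L) (hhi : Nat.card L ≤ 2 ^ 19) :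
    Nat.card L = 2 ^ 15 ∧ Cfsg.IsSpecial 2 L ∧ center L = E := by
  haveI : Fact (Nat.Prime 2) := ⟨Nat.prime_two⟩
  haveI hEn : E.Normal := ⟨fun n hn g => by
    rw [mem_center_iff.1 (hE hn) g, mul_inv_cancel_right]; exact hn⟩
  have hfb' : ∀ x, b x = x → x ∈ E := fun x hx => hfb x hx ▸ one_mem E
  have hmul := card_mul_index E
  rw [hE8] at hmul
  have hidx : E.index = 2 ^ 12 := by
    rcases index_cases hL E a b ha hb hEa hEb hfa hfb' with h | ⟨k, hk, h⟩
    · rw [h] at hmul; omega
    · rcases Nat.lt_or_ge k 2 with hk2 | hk2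
      · rw [h, show k = 1 by omega]
      · have hbig : 2 ^ 24 ≤ E.index := h ▸ Nat.pow_le_pow_right (by norm_num) (by omega)
        omega
  have hcard : Nat.card L = 2 ^ 15 := by rw [← hmul, hidx]; norm_num
  -- a normal invariant subgroup above `E` is `E` or everything
  have habove : ∀ M : Subgroup L, M.Normal → (∀ φ : MulAut L, ∀ x ∈ M, φ x ∈ M) → E ≤ M →
      M = E ∨ M = ⊤ := by
    intro M hMn hMinv hEM
    haveI := hMn
    have hdvd := index_dvd_of_le hEM
    rcases index_cases hL M a b ha hb (hMinv a) (hMinv b) (fun x hx => hEM (hfa x hx))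
      (fun x hx => hEM (hfb' x hx)) with h | ⟨k, hk, h⟩
    · exact Or.inr (index_eq_one.1 h)
    · left
      have h1 : M.index = E.index := by
        refine Nat.dvd_antisymm hdvd ?_
        rw [hidx, h]
        exact Nat.pow_dvd_pow 2 (by omega)
      refine (eq_of_le_of_card_ge hEM (le_of_eq ?_)).symm
      have h2 := card_mul_index M
      rw [h1, ← card_mul_index E] at h2
      exact Nat.eq_of_mul_eq_mul_right (by rw [hidx]; norm_num) h2
  have hcenter : center L = E := by
    rcases habove (center L) inferInstance (fun φ x hx => mem_center_iff.2 fun g => by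
      have h := mem_center_iff.1 hx (φ.symm g)
      have h' := congrArg φ h
      simpa using h') hE with h | h
    · exact h
    · exact absurd (fun x y => (mem_center_iff.1 (h ▸ mem_top y : y ∈ center L) x)) hna
  -- the commutator subgroup and the Frattini subgroup
  have hchar : ∀ (M : Subgroup L), M.Characteristic → ∀ φ : MulAut L, ∀ x ∈ M, φ x ∈ M := by
    intro M hM φ x hx
    have := hM.fixed φ
    rw [← this] at hx
    exact hx
  haveI hfc : (frattini L).Characteristic := inferInstance
  have hfr : frattini L ≤ E := by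
    haveI : (frattini L ⊔ E).Normal := sup_normal _ _
    have hinv : ∀ φ : MulAut L, ∀ x ∈ frattini L ⊔ E, φ x ∈ frattini L ⊔ E := by
      intro φ x hx
      have hh : (frattini L ⊔ E).map (φ : L →* L) ≤ frattini L ⊔ E := by
        rw [Subgroup.map_sup]
        refine sup_le (le_trans ?_ le_sup_left) (le_trans ?_ le_sup_right)
        · rintro _ ⟨y, hy, rfl⟩; exact hchar _ hfc φ y hy
        · rintro _ ⟨y, hy, rfl⟩
          have := hchar (center L) inferInstance φ y (hE hy)
          rwa [hcenter] at this
      exact hh (mem_map_of_mem _ hx)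
    rcases habove _ inferInstance hinv le_sup_right with h | h
    · exact h ▸ le_sup_left
    · exfalso
      have := frattini_nongenerating (K := E) (by rw [sup_comm]; exact h)
      rw [this] at hE8
      rw [card_top, hcard] at hE8
      norm_num at hE8
  have hder : commutator L = E := by
    have hle : commutator L ≤ E := (CfsgLib.PGroup.commutator_le_frattini hL).trans hfr
    refine le_antisymm hle fun y hy => ?_
    obtain ⟨x, hx, hx1⟩ : ∃ x ∈ commutator L, x ≠ 1 := by
      by_contra h
      push Not at h
      refine hna fun x y => ?_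
      have := h _ (commutator_mem_commutator (mem_top x) (mem_top y))
      rwa [commutatorElement_eq_one_iff_mul_comm] at this
    by_cases hy1 : y = 1
    · rw [hy1]; exact one_mem _
    obtain ⟨φ, hφ⟩ := htrans x (hle hx) hx1 y hy hy1
    rw [← hφ]
    exact hchar _ inferInstance φ x hx
  refine ⟨hcard, ⟨hL, ?_, ?_⟩, hcenter⟩
  · rw [hcenter]
    refine le_antisymm hfr ?_
    rw [← hder]
    exact CfsgLib.PGroup.commutator_le_frattini hL
  · rw [hcenter, hder]

end CfsgLib.J4Pentad49
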